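import Groth.Agent.Torsor.Descent
import Groth.Agent.NeronGen.Dense
import Groth.Agent.FpqcDescent.Sep
import Groth.Prelude.Def_NonAbH2
import Groth.Prelude.Def_Neron

/-!
# Torsors under Néron models are Néron models
-/

set_option autoImplicit false
set_option backward.isDefEq.respectTransparency false
set_option backward.isDefEq.respectTransparency.types false
universe u

open CategoryTheory CategoryTheory.Limits MonoidalCategory CartesianMonoidalCategory MonObj AlgebraicGeometry

noncomputable section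

namespace Groth.Agent.NeronTorsor

/-- Morphisms descend along fppf morphisms. -/
theorem exists_desc {A B Z : Scheme.{u}} (f : A ⟶ B) [Flat f] [Surjective f] [LocallyOfFinitePresentation f]
    (h : A ⟶ Z) (hh : ∀ ⦃W : Scheme.{u}⦄ (p q : W ⟶ A), p ≫ f = q ≫ f → p ≫ h = q ≫ h) :
    ∃ g : B ⟶ Z, f ≫ g = h :=
  ⟨EffectiveEpi.desc f h fun p q e => hh p q e, EffectiveEpi.fac f h _⟩

variable (R : Type u) [CommRing R] [IsDedekindDomain R]

local notation "S₀" => Spec (CommRingCat.of R)

theorem adj_map {A B : Over S₀} (g : A ⟶ B) :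
    ((Over.mapPullbackAdj (Neron.genPt R)).homEquiv _ _).symm ((Neron.genericFibre R).map g) =
      (Over.mapPullbackAdj (Neron.genPt R)).counit.app A ≫ g := by
  rw [Adjunction.homEquiv_counit]
  exact (Over.mapPullbackAdj (Neron.genPt R)).counit.naturality g

/-- A torsor under a Néron model has the Néron mapping property. -/
theorem bijective {X P : Over S₀} [GrpObj X] (a : AlgGrp.Action X P) (ha : NonAbH1.IsPseudoTorsorSch a)
    [Surjective P.hom] [Smooth P.hom] [IsSeparated P.hom]
    (hX : ∀ Y : Over S₀, Smooth Y.hom → Function.Bijective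
      (fun g : Y ⟶ X => (Neron.genericFibre R).map g ≫ (Iso.refl ((Neron.genericFibre R).obj X)).hom))
    (Y : Over S₀) [Smooth Y.hom] :
    Function.Bijective (fun g : Y ⟶ P => (Neron.genericFibre R).map g ≫ (Iso.refl _).hom) := by
  refine ⟨fun g g' h => NeronGen.ext R g g' (by simpa using h), fun u => ?_⟩
  let F := Neron.genericFibre R
  let adj := Over.mapPullbackAdj (Neron.genPt R)
  let ub := (adj.homEquiv _ _).symm u
  haveI : IsIso (lift a.act (snd X P)) := ha
  haveI : Flat Y.hom := inferInstance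
  haveI : Smooth (Y ⊗ P).hom := inferInstanceAs (Smooth (pullback.fst Y.hom P.hom ≫ Y.hom))
  let w := lift ((Over.map (Neron.genPt R)).map (F.map (fst Y P)) ≫ ub) (adj.counit.app (Y ⊗ P) ≫ snd Y P) ≫
    inv (lift a.act (snd X P)) ≫ fst X P
  obtain ⟨g, hg⟩ := (hX (Y ⊗ P) inferInstance).2 (adj.homEquiv _ _ w)
  have hg' : adj.counit.app (Y ⊗ P) ≫ g = w := by
    rw [← adj_map, show F.map g = adj.homEquiv _ _ w by simpa using hg]
    exact Equiv.symm_apply_apply _ _
  let G' : Y ⊗ P ⟶ P := lift g (snd Y P) ≫ a.act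
  have hG : F.map G' = F.map (fst Y P) ≫ u := by
    apply (adj.homEquiv _ _).symm.injective
    rw [adj_map, Adjunction.homEquiv_naturality_left_symm]
    show _ = (Over.map (Neron.genPt R)).map (F.map (fst Y P)) ≫ ub
    rw [← Category.assoc, comp_lift, hg']
    have e : lift w (adj.counit.app (Y ⊗ P) ≫ snd Y P) =
        lift ((Over.map (Neron.genPt R)).map (F.map (fst Y P)) ≫ ub) (adj.counit.app (Y ⊗ P) ≫ snd Y P) ≫
          inv (lift a.act (snd X P)) := by
      apply CartesianMonoidalCategory.hom_ext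
      · rw [lift_fst, Category.assoc]
      · rw [lift_snd, Category.assoc, show inv (lift a.act (snd X P)) ≫ snd X P = snd P P by
          rw [IsIso.inv_comp_eq, lift_snd], lift_snd]
    rw [e, Category.assoc, show inv (lift a.act (snd X P)) ≫ a.act = fst P P by rw [IsIso.inv_comp_eq, lift_fst],
      lift_fst]
  haveI : Surjective (fst Y P).left := MorphismProperty.pullback_fst (P := @Surjective) _ _ ‹_›
  haveI : Smooth (fst Y P).left := MorphismProperty.pullback_fst (P := @Smooth) _ _ ‹_›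
  haveI : Smooth (Y ⊗ (P ⊗ P)).hom := by
    haveI : Smooth (P ⊗ P).hom := inferInstanceAs (Smooth (pullback.fst P.hom P.hom ≫ P.hom))
    exact inferInstanceAs (Smooth (pullback.fst Y.hom (P ⊗ P).hom ≫ Y.hom))
  let p₀ : Y ⊗ (P ⊗ P) ⟶ Y ⊗ P := Y ◁ fst P P
  let q₀ : Y ⊗ (P ⊗ P) ⟶ Y ⊗ P := Y ◁ snd P P
  have hpq : p₀ ≫ G' = q₀ ≫ G' := NeronGen.ext R _ _ (by
    refine (F.map_comp p₀ G').trans (Eq.trans ?_ (F.map_comp q₀ G').symm)
    rw [hG, ← Category.assoc, ← Category.assoc, ← F.map_comp, ← F.map_comp]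
    congr 2
    simp [p₀, q₀])
  obtain ⟨g₀, hg₀⟩ := exists_desc (fst Y P).left G'.left fun W p q e => by
    let W' : Over S₀ := Over.mk (p ≫ (Y ⊗ P).hom)
    let p' : W' ⟶ Y ⊗ P := Over.homMk p rfl
    let q' : W' ⟶ Y ⊗ P := Over.homMk q (by
      show q ≫ (Y ⊗ P).hom = p ≫ (Y ⊗ P).hom
      rw [← Over.w (fst Y P), reassoc_of% e])
    have e' : p' ≫ fst Y P = q' ≫ fst Y P := Over.OverMorphism.ext e
    let r : W' ⟶ Y ⊗ (P ⊗ P) := lift (p' ≫ fst Y P) (lift (p' ≫ snd Y P) (q' ≫ snd Y P))
    have hp : r ≫ p₀ = p' := by apply CartesianMonoidalCategory.hom_ext <;> simp [r, p₀]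
    have hq : r ≫ q₀ = q' := by apply CartesianMonoidalCategory.hom_ext <;> simp [r, q₀, e']
    exact congrArg CommaMorphism.left (show p' ≫ G' = q' ≫ G' by
      rw [← hp, ← hq, Category.assoc, Category.assoc, hpq])
  haveI : Epi (fst Y P).left := Flat.epi_of_flat_of_surjective _
  let g₁ : Y ⟶ P := Over.homMk g₀ (by rw [← cancel_epi (fst Y P).left, reassoc_of% hg₀, Over.w, Over.w])
  have hg₁ : fst Y P ≫ g₁ = G' := Over.OverMorphism.ext hg₀
  refine ⟨g₁, ?_⟩
  haveI : Flat (F.map (fst Y P)).left := MorphismProperty.baseChange_map (P := @Flat) _ _ inferInstance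
  haveI : Surjective (F.map (fst Y P)).left := MorphismProperty.baseChange_map (P := @Surjective) _ _ ‹_›
  haveI : Epi (F.map (fst Y P)).left := Flat.epi_of_flat_of_surjective _
  haveI : Epi (F.map (fst Y P)) := Over.epi_of_epi_left _
  show F.map g₁ ≫ 𝟙 _ = u
  rw [Category.comp_id, ← cancel_epi (F.map (fst Y P)), ← F.map_comp, hg₁, hG]

/-- A torsor under a Néron model is a Néron model of its generic fibre. -/
theorem isNeronModelOf (X : Over S₀) [GrpObj X]
    (hX : Neron.IsNeronModelOf R X ((Neron.genericFibre R).obj X) (Iso.refl _))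
    (P : NonAbH1.TorsorSch X Scheme.fppfPrecoverage) :
    Neron.IsNeronModelOf R P.X ((Neron.genericFibre R).obj P.X) (Iso.refl _) := by
  obtain ⟨hsm, hsep, hlft, hqc, hmap⟩ := hX
  have ha : NonAbH1.IsTorsorFor Scheme.fpqcPrecoverage P.act := by
    obtain ⟨h1, Rc, hR, h2⟩ := P.isTorsor
    exact ⟨h1, Rc, Scheme.fppfPrecoverage_le_fpqcPrecoverage _ hR, h2⟩
  haveI : Smooth P.X.hom := Torsor.of_isTorsorFor ha (@Smooth) hsm
  haveI : IsSeparated P.X.hom := Torsor.of_isTorsorFor ha (@IsSeparated) hsep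
  haveI : Surjective P.X.hom := Torsor.surjective_of_isTorsorFor ha
  exact ⟨‹_›, ‹_›, Torsor.of_isTorsorFor ha (@LocallyOfFiniteType) hlft, Torsor.of_isTorsorFor ha (@QuasiCompact) hqc,
    fun Y hY => bijective R P.act P.isTorsor.1 hmap Y⟩

end Groth.Agent.NeronTorsor
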